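import Mathlib.RingTheory.Finiteness.ModuleFinitePresentation
import Mathlib.RingTheory.Invariant.Basic
import Mathlib.RingTheory.Flat.Basic
import Mathlib.RingTheory.FinitePresentation

/-!
Invariants of a finite group of invertible order: the Reynolds operator, flatness and finite
presentation of the ring of invariants.
-/

universe u

namespace Groth.Agent.Lib.QuotTame53

open Polynomial

variable {R B A G : Type u} [CommRing R] [CommRing B] [CommRing A] [Algebra R B] [Algebra R A]
  [Algebra B A] [IsScalarTower R B A] [Group G] [Finite G] [MulSemiringAction G A]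
  [SMulCommClass G B A] [Algebra.IsInvariant B A G]

/-- The averaging retraction onto the invariants. -/
theorem exists_reynolds (hinj : Function.Injective (algebraMap B A))
    (hG : IsUnit ((Nat.card G : ℕ) : B)) :
    ∃ r : A →ₗ[B] B, ∀ b, r (algebraMap B A b) = b := by
  classical
  cases nonempty_fintype G
  obtain ⟨c, hc⟩ := hG.exists_left_inv
  have hfix : ∀ x : A, ∃ b : B, algebraMap B A b = ∑ g : G, g • x := fun x =>
    Algebra.IsInvariant.isInvariant (G := G) _ fun h => by
      rw [Finset.smul_sum]
      exact Fintype.sum_equiv (Equiv.mulLeft h) _ _ fun g => (mul_smul h g x).symm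
  choose t ht using hfix
  have hadd : ∀ x y, t (x + y) = t x + t y := fun x y => hinj (by
    simp only [ht, map_add, smul_add, Finset.sum_add_distrib])
  have hsmul : ∀ (b : B) x, t (b • x) = b * t x := fun b x => hinj (by
    rw [map_mul, ht, ht, Finset.mul_sum]
    exact Finset.sum_congr rfl fun g _ => by rw [smul_comm, Algebra.smul_def])
  refine ⟨c • { toFun := t, map_add' := hadd, map_smul' := hsmul }, fun b => ?_⟩
  show c * t (algebraMap B A b) = b
  have h : t (algebraMap B A b) = (Nat.card G : B) * b := hinj (by
    rw [ht, map_mul, map_natCast, Nat.card_eq_fintype_card]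
    simp [smul_algebraMap])
  rw [h, ← mul_assoc, hc, one_mul]

theorem flat_invariants (hinj : Function.Injective (algebraMap B A))
    (hG : IsUnit ((Nat.card G : ℕ) : B)) [Module.Flat R A] : Module.Flat R B := by
  obtain ⟨r, hr⟩ := exists_reynolds (G := G) hinj hG
  exact Module.Flat.of_retract (((Algebra.linearMap B A).restrictScalars R)) (r.restrictScalars R)
    (LinearMap.ext fun b => hr b)

theorem finitePresentation_invariants (hinj : Function.Injective (algebraMap B A))
    (hG : IsUnit ((Nat.card G : ℕ) : B)) [Algebra.FinitePresentation R A] :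
    Algebra.FinitePresentation R B := by
  classical
  obtain ⟨r, hr⟩ := exists_reynolds (G := G) hinj hG
  have hint := Algebra.IsInvariant.isIntegral B A G
  obtain ⟨s, hs⟩ := (Algebra.FiniteType.out (R := R) (A := A))
  choose p hpm hp using fun a : A => hint.isIntegral a
  let T : Finset B := s.biUnion fun a => (Finset.range ((p a).natDegree + 1)).image (p a).coeff
  let φ : MvPolynomial T R →ₐ[R] B := MvPolynomial.aeval fun t : T => (t : B)
  let := φ.toRingHom.toAlgebra
  have : IsScalarTower R (MvPolynomial T R) B := .of_algebraMap_eq' φ.comp_algebraMap.symm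
  let := ((algebraMap B A).comp φ.toRingHom).toAlgebra
  have : IsScalarTower (MvPolynomial T R) B A := .of_algebraMap_eq' rfl
  have : IsScalarTower R (MvPolynomial T R) A := .of_algebraMap_eq fun x => by
    rw [IsScalarTower.algebraMap_apply (MvPolynomial T R) B A,
      ← IsScalarTower.algebraMap_apply R (MvPolynomial T R) B, ← IsScalarTower.algebraMap_apply]
  have : Algebra.FinitePresentation (MvPolynomial T R) A :=
    Algebra.FinitePresentation.of_restrict_scalars_finitePresentation R _ A
  have hgen : ∀ a ∈ s, IsIntegral (MvPolynomial T R) a := fun a ha => by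
    have hl : p a ∈ Polynomial.lifts (algebraMap (MvPolynomial T R) B) := by
      refine (Polynomial.lifts_iff_coeff_lifts _).mpr fun n => ?_
      by_cases hn : n ≤ (p a).natDegree
      · exact ⟨MvPolynomial.X ⟨(p a).coeff n, Finset.mem_biUnion.mpr
          ⟨a, ha, Finset.mem_image_of_mem _ (Finset.mem_range.mpr (Nat.lt_succ_of_le hn))⟩⟩,
          MvPolynomial.aeval_X _ _⟩
      · exact ⟨0, by rw [map_zero, Polynomial.coeff_eq_zero_of_natDegree_lt (not_le.mp hn)]⟩
    obtain ⟨q, hq, -, hqm⟩ := Polynomial.lifts_and_natDegree_eq_and_monic hl (hpm a)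
    refine ⟨q, hqm, ?_⟩
    rw [IsScalarTower.algebraMap_eq (MvPolynomial T R) B A, ← Polynomial.eval₂_map, hq]
    exact hp a
  have : Algebra.IsIntegral (MvPolynomial T R) A := ⟨fun a => by
    have h : a ∈ Algebra.adjoin R (s : Set A) := hs ▸ trivial
    have : Algebra.adjoin R (s : Set A) ≤ (integralClosure (MvPolynomial T R) A).restrictScalars R :=
      Algebra.adjoin_le fun x hx => hgen x hx
    exact this h⟩
  have : Module.Finite (MvPolynomial T R) A := Algebra.IsIntegral.finite
  have := Module.FinitePresentation.of_finite_of_finitePresentation (MvPolynomial T R) A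
  let i := (Algebra.linearMap B A).restrictScalars (MvPolynomial T R)
  let rP := r.restrictScalars (MvPolynomial T R)
  have hri : ∀ b, rP (i b) = b := hr
  have : Module.FinitePresentation (MvPolynomial T R) B := by
    refine Module.finitePresentation_of_surjective rP (fun b => ⟨i b, hri b⟩) ?_
    have : LinearMap.ker rP = LinearMap.range (LinearMap.id - i ∘ₗ rP) := by
      ext x
      refine ⟨fun hx => ⟨x, ?_⟩, ?_⟩
      · simp [LinearMap.mem_ker.mp hx]
      · rintro ⟨y, rfl⟩
        simp [hri]
    rw [this, LinearMap.range_eq_map]
    exact Module.Finite.fg_top.map _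
  exact Algebra.FinitePresentation.trans R (MvPolynomial T R) B

end Groth.Agent.Lib.QuotTame53
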