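import Groth.Agent.Lib.QuotTame53.Alg
import Groth.Agent.Lib.SchQuot.Props
import Mathlib.AlgebraicGeometry.Morphisms.Flat
import Mathlib.AlgebraicGeometry.Morphisms.FinitePresentation
import Mathlib.AlgebraicGeometry.Morphisms.Proper

/-!
Quotients by finite groups of invertible order.
-/

universe u

open CategoryTheory CategoryTheory.Limits AlgebraicGeometry TopologicalSpace Opposite
open Groth.Agent.Lib.SchQuot

namespace Groth.Agent.Lib.QuotTame53

theorem isUnit_card {Y S : Scheme.{u}} {G : Type u} (q : Y ⟶ S)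
    (hG : IsUnit ((Nat.card G : ℕ) : Γ(S, ⊤))) (U : Y.Opens) :
    IsUnit ((Nat.card G : ℕ) : Γ(Y, U)) := by
  have := hG.map ((Y.presheaf.map (homOfLE le_top).op).hom.comp q.appTop.hom : Γ(S, ⊤) →+* Γ(Y, U))
  rwa [map_natCast] at this

variable {X Y S : Scheme.{u}} {G : Type u} [Group G] [Finite G] {ρ : G →* Aut X} {p : X ⟶ Y}
  (hp : SGA1.IsQuot ρ p) (q : Y ⟶ S) (hG : IsUnit ((Nat.card G : ℕ) : Γ(S, ⊤)))
include hp hG

theorem flat (h : Flat (p ≫ q)) : Flat q := by
  rw [HasRingHomProperty.iff_appLE (P := @Flat)]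
  intro W U e
  have := hp.affine
  have hV : IsAffineOpen (p ⁻¹ᵁ U.1) := U.2.preimage p
  let := IsQuot.action hp U.1
  let := (p.app U.1).hom.toAlgebra
  have := IsQuot.smulCommClass hp U.1
  have := IsQuot.isInvariant hp U.1
  let := (q.appLE W U e).hom.toAlgebra
  let := ((p ≫ q).appLE W.1 (p ⁻¹ᵁ U.1) (fun x hx => e hx)).hom.toAlgebra
  have : IsScalarTower Γ(S, W) Γ(Y, U.1) Γ(X, p ⁻¹ᵁ U.1) := .of_algebraMap_eq fun r => by
    show (p ≫ q).appLE W.1 (p ⁻¹ᵁ U.1) _ r = p.app U.1 (q.appLE W U e r)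
    rw [← CommRingCat.comp_apply, Scheme.Hom.app_eq_appLE, Scheme.Hom.appLE_comp_appLE]
  have : Module.Flat Γ(S, W) Γ(X, p ⁻¹ᵁ U.1) :=
    (p ≫ q).flat_appLE W.2 hV (fun x hx => e hx)
  exact flat_invariants (G := G) (hp.injective U.1) (isUnit_card q hG U.1)

theorem locallyOfFinitePresentation (h : LocallyOfFinitePresentation (p ≫ q)) :
    LocallyOfFinitePresentation q := by
  rw [HasRingHomProperty.iff_appLE (P := @LocallyOfFinitePresentation)]
  intro W U e
  have := hp.affine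
  have hV : IsAffineOpen (p ⁻¹ᵁ U.1) := U.2.preimage p
  let := IsQuot.action hp U.1
  let := (p.app U.1).hom.toAlgebra
  have := IsQuot.smulCommClass hp U.1
  have := IsQuot.isInvariant hp U.1
  let := (q.appLE W U e).hom.toAlgebra
  let := ((p ≫ q).appLE W.1 (p ⁻¹ᵁ U.1) (fun x hx => e hx)).hom.toAlgebra
  have : IsScalarTower Γ(S, W) Γ(Y, U.1) Γ(X, p ⁻¹ᵁ U.1) := .of_algebraMap_eq fun r => by
    show (p ≫ q).appLE W.1 (p ⁻¹ᵁ U.1) _ r = p.app U.1 (q.appLE W U e r)
    rw [← CommRingCat.comp_apply, Scheme.Hom.app_eq_appLE, Scheme.Hom.appLE_comp_appLE]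
  have : Algebra.FinitePresentation Γ(S, W) Γ(X, p ⁻¹ᵁ U.1) :=
    (p ≫ q).finitePresentation_appLE W.2 hV (fun x hx => e hx)
  exact finitePresentation_invariants (G := G) (hp.injective U.1) (isUnit_card q hG U.1)

omit hG in
theorem isProper (hqt : LocallyOfFiniteType q) [IsProper (p ≫ q)] : IsProper q := by
  have := IsQuot.isIntegralHom hp
  have : Surjective p := ⟨IsQuot.surjective hp⟩
  have : IsSeparated q := Props.isSeparated_of_comp hp q inferInstance
  have : UniversallyClosed q := UniversallyClosed.of_comp_surjective p q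
  exact {}

omit hG in
theorem isOpenMap : IsOpenMap p := by
  intro U hU
  have hq := IsQuot.isQuotientMap hp
  rw [← hq.isOpen_preimage]
  have : p ⁻¹' (p '' U) = ⋃ g : G, (ρ g).hom ⁻¹' U := by
    ext x
    simp only [Set.mem_preimage, Set.mem_image, Set.mem_iUnion]
    refine ⟨fun ⟨u, hu, he⟩ => ?_, fun ⟨g, hg⟩ => ⟨_, hg, IsQuot.apply_hom hp g x⟩⟩
    obtain ⟨g, hg⟩ := (IsQuot.apply_eq_iff hp x u).mp he.symm
    exact ⟨g, hg ▸ hu⟩
  rw [this]
  exact isOpen_iUnion fun g => hU.preimage (ρ g).hom.continuous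

end Groth.Agent.Lib.QuotTame53
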