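import Groth.Agent.Lib.QuotTame53.Normal
import Groth.Agent.Lib.QuotTame53.Scheme
import Groth.Agent.Lib.SchQuot.FlatBaseChange
import Groth.Agent.Lib.AffineCompl.Dim
import Groth.Agent.Lib.JacCrit.OverField
import Groth.Agent.Lib.FinCond.Components
import Groth.Agent.Lib.CurveCompl53.Basic
import Groth.Agent.Lib.Regular.Quotient
import Groth.Agent.Lib.Regular.UFD
import Mathlib.AlgebraicGeometry.Morphisms.LocalFlatDescent
import Mathlib.AlgebraicGeometry.Geometrically.Connected
import Mathlib.FieldTheory.IsAlgClosed.AlgebraicClosure

/-!
Quotients of smooth proper curves by finite groups.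
-/

set_option autoImplicit false
set_option backward.isDefEq.respectTransparency false

universe u

open CategoryTheory CategoryTheory.Limits AlgebraicGeometry TopologicalSpace
open Groth.Agent.Lib.SchQuot

namespace Groth.Agent.Lib.QuotTame53.Curve

variable {X Y S S' : Scheme.{u}} {G : Type u} [Group G] {ρ : G →* Aut X} {f : X ⟶ S}
  (hρ : ∀ g : G, (ρ g).hom ≫ f = f) (b : S' ⟶ S)

/-- The action on a base change. -/
noncomputable def actBC : G →* Aut (pullback f b) where
  toFun g :=
    { hom := pullback.map f b f b (ρ g).hom (𝟙 S') (𝟙 S) (by rw [Category.comp_id, hρ]) (by simp)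
      inv := pullback.map f b f b (ρ g⁻¹).hom (𝟙 S') (𝟙 S) (by rw [Category.comp_id, hρ]) (by simp)
      hom_inv_id := by
        apply pullback.hom_ext
        · simp only [Category.assoc, pullback.map, pullback.lift_fst, pullback.lift_fst_assoc,
            Category.id_comp]
          rw [← IsQuot.hom_mul_hom, inv_mul_cancel, IsQuot.hom_one, Category.comp_id]
        · rw [pullback.map, pullback.map, Category.assoc, pullback.lift_snd, pullback.lift_snd_assoc,
            Category.comp_id, Category.comp_id, Category.id_comp]
      inv_hom_id := by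
        apply pullback.hom_ext
        · simp only [Category.assoc, pullback.map, pullback.lift_fst, pullback.lift_fst_assoc,
            Category.id_comp]
          rw [← IsQuot.hom_mul_hom, mul_inv_cancel, IsQuot.hom_one, Category.comp_id]
        · rw [pullback.map, pullback.map, Category.assoc, pullback.lift_snd, pullback.lift_snd_assoc,
            Category.comp_id, Category.comp_id, Category.id_comp] }
  map_one' := Iso.ext (by
    apply pullback.hom_ext
    · simp only [pullback.map, pullback.lift_fst]
      rw [IsQuot.hom_one, Category.comp_id]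
      exact (Category.id_comp _).symm
    · simp only [pullback.map, Category.comp_id]
      rw [pullback.lift_snd]
      exact (Category.id_comp _).symm)
  map_mul' g h := Iso.ext (by
    apply pullback.hom_ext
    · simp only [pullback.map, pullback.lift_fst, Aut.Aut_mul_def, Iso.trans_hom, Category.assoc,
        pullback.lift_fst_assoc]
      rw [← IsQuot.hom_mul_hom]
    · simp only [pullback.map, Aut.Aut_mul_def, Iso.trans_hom, Category.assoc, Category.comp_id]
      rw [pullback.lift_snd, pullback.lift_snd, pullback.lift_snd])

variable {π : X ⟶ Y} {q : Y ⟶ S}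

/-- The base change of the quotient map. -/
noncomputable def quotBC (hπ : π ≫ q = f) : pullback f b ⟶ pullback q b :=
  pullback.map f b q b π (𝟙 S') (𝟙 S) (by rw [Category.comp_id, hπ]) (by simp)

theorem isPullback_quotBC (hπ : π ≫ q = f) :
    IsPullback (pullback.fst f b) (quotBC b hπ) π (pullback.fst q b) := by
  subst hπ
  refine IsPullback.of_bot ?_ (pullback.lift_fst _ _ _).symm (IsPullback.of_hasPullback q b)
  rw [quotBC, pullback.map, pullback.lift_snd, Category.comp_id]
  exact IsPullback.of_hasPullback _ _

theorem isQuot_quotBC [Finite G] [Flat b] (hquot : SGA1.IsQuot ρ π) (hπ : π ≫ q = f) :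
    SGA1.IsQuot (actBC hρ b) (quotBC b hπ) := by
  refine FlatBaseChange.isQuot_baseChange hquot (isPullback_quotBC b hπ) _ (fun g => ?_) (fun g => ?_)
  · simp only [actBC, MonoidHom.coe_mk, OneHom.coe_mk, pullback.map, pullback.lift_fst]
  · simp only [actBC, MonoidHom.coe_mk, OneHom.coe_mk]
    apply pullback.hom_ext
    · simp only [quotBC, pullback.map, Category.assoc, pullback.lift_fst, pullback.lift_fst_assoc]
      rw [hquot.inv g]
    · simp only [quotBC, pullback.map, Category.assoc, pullback.lift_snd, Category.comp_id]

/-- A connected scheme smooth over a field is integral, with regular local rings. -/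
theorem isIntegral_of_smooth {k : Type u} [Field k] {X : Scheme.{u}} (p : X ⟶ Spec (CommRingCat.of k))
    [Smooth p] [ConnectedSpace X] : IsIntegral X ∧ Pi1.IsNormalScheme X := by
  have hreg : ∀ x : X, IsRegularLocalRing (X.presheaf.stalk x) := fun x => by
    refine Groth.Agent.Lib.JacCrit.OverField.isRegularLocalRing_stalk p x ?_
    rw [Scheme.Hom.smoothLocus_eq_top]
    trivial
  have : IsLocallyNoetherian X := LocallyOfFiniteType.isLocallyNoetherian p
  refine ⟨(Groth.Agent.Lib.FinCond.isIntegral_iff X).2 ⟨inferInstance, fun x =>
    have := hreg x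
    Groth.Agent.Lib.Regular.Quotient.isDomain _⟩, fun x => ?_⟩
  have := hreg x
  exact ⟨Groth.Agent.Lib.Regular.Quotient.isDomain _,
    have := Groth.Agent.Lib.Regular.Quotient.isDomain (X.presheaf.stalk x)
    have := Groth.Agent.Lib.Regular.UFD.uniqueFactorizationMonoid (X.presheaf.stalk x)
    inferInstance⟩

variable {k : Type u} [Field k] {X Y : Scheme.{u}} [Finite G] {ρ : G →* Aut X} {π : X ⟶ Y}

/-- Over a perfect field the quotient of a connected smooth curve by a finite group is smooth. -/
theorem smooth_quot [PerfectField k] (p : X ⟶ Spec (CommRingCat.of k)) [Smooth p] [ConnectedSpace X]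
    (hX : topologicalKrullDim X ≤ 1) (q : Y ⟶ Spec (CommRingCat.of k)) (hπ : π ≫ q = p)
    (hquot : SGA1.IsQuot ρ π) : Smooth q := by
  subst hπ
  obtain ⟨hint, hnorm⟩ := isIntegral_of_smooth (π ≫ q)
  have := Normal.isIntegral hquot
  have hY := Normal.isNormalScheme hquot hnorm
  have : LocallyOfFiniteType q := Props.locallyOfFiniteType_of_comp' hquot q inferInstance
  have : IsFinite π := Props.isFinite_of_comp hquot q inferInstance
  have : IsLocallyNoetherian Y := LocallyOfFiniteType.isLocallyNoetherian q
  have : LocallyOfFinitePresentation q := JacCrit.OverField.locallyOfFinitePresentation q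
  have hdim : topologicalKrullDim Y ≤ 1 := by
    rwa [← AffineCompl.Dim.topologicalKrullDim_of_finite_surjective π
      (IsQuot.surjective hquot)]
  rw [← Scheme.Hom.smoothLocus_eq_top_iff, ← top_le_iff]
  intro y _
  have h1 : IsDomain (Y.presheaf.stalk y) := (hY y).1
  have h2 : IsIntegrallyClosed (Y.presheaf.stalk y) := (hY y).2
  exact JacCrit.OverField.mem_smoothLocus_of_isRegular q y
    (CurveCompl53.Basic.isRegularLocalRing_of_dim_le_one _ ((Groth.Agent.Lib.Cyc.TorPD.ringKrullDim_stalk_le y).trans hdim))

end Groth.Agent.Lib.QuotTame53.Curve
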