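import Groth.Agent.Lib.QuotTame53.Family
import Groth.Agent.Lib.Flat55.SmoothAt
import Groth.Agent.Lib.Flat55.FibrewiseStalk
import Groth.Agent.Lib.Lim.OpenImm
import Groth.Agent.S18897
import Groth.Agent.Lib.FlatStrat53.FibreChi
import Groth.Prelude.Def_Curv2

/-!
Quotients of families of smooth curves by groups acting faithfully on the fibres.
-/

set_option autoImplicit false
set_option backward.isDefEq.respectTransparency false

universe u

open CategoryTheory CategoryTheory.Limits AlgebraicGeometry TopologicalSpace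
open Groth.Agent.Lib.SchQuot

namespace Groth.Agent.Lib.QuotTame53.Double

theorem curve_family {X Y S : Scheme.{u}} (f : X ⟶ S)
    [IsProper f] [Smooth f] [GeometricallyConnected f]
    (hdim : ∀ s : S, topologicalKrullDim ↥(f.fiber s) = 1)
    {G : Type u} [Group G] [Finite G] (hG : IsUnit ((Nat.card G : ℕ) : Γ(S, ⊤)))
    (ρ : G →* Aut X) (hρ : ∀ a : G, (ρ a).hom ≫ f = f)
    (hfaith : ∀ s : S, Function.Injective (Curve.actBC hρ (S.fromSpecResidueField s)))
    (π : X ⟶ Y) (q : Y ⟶ S) (hπ : π ≫ q = f) (hquot : SGA1.IsQuot ρ π) :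
    IsProper q ∧ Smooth q ∧ GeometricallyConnected q ∧ (∀ s : S, topologicalKrullDim ↥(q.fiber s) = 1) ∧
      IsFinite π ∧ Flat π ∧ LocallyOfFinitePresentation π ∧ ∀ y : Y, π.finrank y = Nat.card G := by
  subst hπ
  have hqp := Groth.Agent.Lib.QuotTame53.locallyOfFinitePresentation hquot q hG inferInstance
  have hprop : IsProper q := Groth.Agent.Lib.QuotTame53.isProper hquot q inferInstance
  have hfin : IsFinite π := Groth.Agent.Lib.SchQuot.Props.isFinite_of_comp hquot q inferInstance
  have hpfp : LocallyOfFinitePresentation π := Groth.Agent.Lib.Lim.OpenImm.lfp_of_comp π q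
  have hqflat : Flat q := Groth.Agent.Lib.QuotTame53.flat hquot q hG inferInstance
  have hfibre : ∀ s : S, IsProper (q.fiberToSpecResidueField s) ∧
      Smooth (q.fiberToSpecResidueField s) ∧ GeometricallyConnected (q.fiberToSpecResidueField s) ∧
      topologicalKrullDim ↥(q.fiber s) = 1 ∧
      IsFinite (Groth.Agent.Lib.QuotTame53.Curve.quotBC (S.fromSpecResidueField s) (q := q)
        (π := π) rfl) ∧
      Flat (Groth.Agent.Lib.QuotTame53.Curve.quotBC (S.fromSpecResidueField s) (q := q)
        (π := π) rfl) ∧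
      ∀ y, (Groth.Agent.Lib.QuotTame53.Curve.quotBC (S.fromSpecResidueField s) (q := q)
        (π := π) rfl).finrank y = Nat.card G := fun s => by
    haveI : IsProper ((π ≫ q).fiberToSpecResidueField s) :=
      MorphismProperty.pullback_snd _ _ inferInstance
    haveI : Smooth ((π ≫ q).fiberToSpecResidueField s) :=
      MorphismProperty.pullback_snd _ _ inferInstance
    haveI : GeometricallyConnected ((π ≫ q).fiberToSpecResidueField s) :=
      MorphismProperty.pullback_snd _ _ inferInstance
    refine Groth.Agent.S18897.result (S.residueField s) ((π ≫ q).fiberToSpecResidueField s)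
      (hdim s) ?_ (Groth.Agent.Lib.QuotTame53.Curve.actBC hρ (S.fromSpecResidueField s)) ?_
      (fun a => ?_) _ _ ?_
      (Groth.Agent.Lib.QuotTame53.Family.isQuot_quotBC_tame hG hquot hρ (S.fromSpecResidueField s))
    · have h := hG.map (S.evaluation ⊤ s trivial).hom
      rw [map_natCast] at h
      exact h.ne_zero
    · exact hfaith s
    · exact (pullback.lift_snd _ _ _).trans (Category.comp_id _)
    · exact (pullback.lift_snd _ _ _).trans (Category.comp_id _)
  have hsm : Smooth q := by
    rw [← Scheme.Hom.smoothLocus_eq_top_iff, ← top_le_iff]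
    intro y _
    exact Groth.Agent.Lib.Flat55.SmoothAt.mem_smoothLocus_of_fibre q y (Flat.stalkMap _ _) (q y)
      rfl (hfibre (q y)).2.1
  have hflat : Flat π := by
    rw [Flat.iff_flat_stalkMap]
    intro x
    obtain ⟨a, ha⟩ : x ∈ Set.range ((π ≫ q).fiberι (q (π x))) := by
      rw [Scheme.Hom.range_fiberι]; rfl
    have e : MoreMor.fiberMap π q (q (π x)) = Groth.Agent.Lib.QuotTame53.Curve.quotBC
        (S.fromSpecResidueField (q (π x))) (q := q) (π := π) rfl := by
      apply pullback.hom_ext
      · exact (pullback.lift_fst _ _ _).trans (pullback.lift_fst _ _ _).symm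
      · exact (pullback.lift_snd _ _ _).trans
          ((Category.comp_id _).symm.trans (pullback.lift_snd _ _ _).symm)
    haveI : Flat (MoreMor.fiberMap π q (q (π x))) := e ▸ (hfibre _).2.2.2.2.2.1
    exact (Groth.Agent.Lib.Flat55.FibrewiseStalk.flat_stalkMap_of_fiberMap π q x _ a ha
      (Flat.stalkMap _ _) (Flat.stalkMap _ _)).1
  refine ⟨hprop, hsm, ⟨fun K _ y Z fst snd hZ => ?_⟩, fun s => (hfibre s).2.2.2.1, hfin, hflat, hpfp,
    fun y => ?_⟩
  · have hsurj := Groth.Agent.Lib.QuotTame53.Family.surjective_quotBC (q := q) hquot y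
    have : ConnectedSpace ↥(pullback (π ≫ q) y) :=
      GeometricallyConnected.geometrically_connectedSpace y _ _ (IsPullback.of_hasPullback _ _)
    have h2 : ConnectedSpace ↥(pullback q y) := hsurj.1.connectedSpace
      (Groth.Agent.Lib.QuotTame53.Curve.quotBC y (q := q) (π := π) rfl).continuous
    show ConnectedSpace Z
    exact hZ.isoPullback.inv.surjective.connectedSpace hZ.isoPullback.inv.continuous
  · obtain ⟨y', hy'⟩ : y ∈ Set.range (q.fiberι (q y)) := by
      rw [Scheme.Hom.range_fiberι]; rfl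
    rw [← (hfibre (q y)).2.2.2.2.2.2 y', Scheme.Hom.finrank_of_isPullback _ _ _ _
      (Groth.Agent.Lib.QuotTame53.Curve.isPullback_quotBC (S.fromSpecResidueField (q y))
        (q := q) (π := π) rfl) y']
    exact congrArg π.finrank hy'.symm


/-- A quotient by a trivially acting group is an isomorphism. -/
theorem isIso_of_trivial {X Y : Scheme.{u}} {G : Type u} [Group G] [Finite G] {ρ : G →* Aut X}
    {p : X ⟶ Y} (hp : SGA1.IsQuot ρ p) (h : ∀ a : G, (ρ a).hom = 𝟙 X) : IsIso p := by
  have := hp.affine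
  refine Groth.Agent.Lib.Contraction.isIso_of_affine_cover p fun U _ =>
    ⟨hp.injective U, fun s => ?_⟩
  refine (hp.range_iff U s).mpr fun g => ?_
  simp only [h g]
  show (𝟙 X : X ⟶ X).appLE (p ⁻¹ᵁ U) (p ⁻¹ᵁ U) _ s = s
  simp [Scheme.Hom.appLE]
  exact congrFun (congrArg (fun m : Γ(X, p ⁻¹ᵁ U) ⟶ Γ(X, p ⁻¹ᵁ U) => ⇑m.hom) (X.presheaf.map_id _)) s

theorem genus_eq_of_iso {k : Type u} [Field k] {X Y : Scheme.{u}}
    [X.Over (Spec (CommRingCat.of k))] [Y.Over (Spec (CommRingCat.of k))] [CompactSpace Y]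
    [QuasiSeparatedSpace Y] (e : X ≅ Y)
    (he : e.hom ≫ (Y ↘ Spec (CommRingCat.of k)) = X ↘ Spec (CommRingCat.of k)) :
    Curv2.genus k X = Curv2.genus k Y := by
  unfold Curv2.genus
  haveI : (Coh.structureModule Y).IsQuasicoherent := TensorMod.QCohInv.isQCoh_structureModule Y
  rw [← FlatStrat53.finrank_HH_iso e he (Coh.structureModule Y) 1]
  exact (Groth.Agent.Lib.Curves.LES.isoK k (PicLoc.pullbackStructureIso e.hom) 1).finrank_eq.symm

end Groth.Agent.Lib.QuotTame53.Double
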