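import Groth.Agent.Lib.QuotTame53.Curve
import Groth.Agent.Lib.QuotTame53.BaseChange

/-!
Base change of a tame quotient to an arbitrary base.
-/

set_option autoImplicit false
set_option backward.isDefEq.respectTransparency false

universe u

open CategoryTheory CategoryTheory.Limits AlgebraicGeometry TopologicalSpace
open Groth.Agent.Lib.SchQuot

namespace Groth.Agent.Lib.QuotTame53.Family

variable {X Y S S' : Scheme.{u}} {G : Type u} [Group G] [Finite G] {ρ : G →* Aut X} {π : X ⟶ Y}
  {q : Y ⟶ S}

theorem isQuot_quotBC_tame (hG : IsUnit ((Nat.card G : ℕ) : Γ(S, ⊤))) (hquot : SGA1.IsQuot ρ π)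
    (hρ : ∀ g : G, (ρ g).hom ≫ π ≫ q = π ≫ q) (b : S' ⟶ S) :
    SGA1.IsQuot (Curve.actBC hρ b) (Curve.quotBC b (q := q) (π := π) rfl) := by
  refine BaseChange.isQuot_baseChange hquot (fun U => isUnit_card q hG U)
    (Curve.isPullback_quotBC b rfl) _ (fun g => ?_) (fun g => ?_)
  · simp only [Curve.actBC, MonoidHom.coe_mk, OneHom.coe_mk, pullback.map, pullback.lift_fst]
  · simp only [Curve.actBC, MonoidHom.coe_mk, OneHom.coe_mk]
    apply pullback.hom_ext
    · simp only [Curve.quotBC, pullback.map, Category.assoc, pullback.lift_fst,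
        pullback.lift_fst_assoc]
      rw [hquot.inv g]
    · simp only [Curve.quotBC, pullback.map, Category.assoc, pullback.lift_snd, Category.comp_id]

theorem surjective_quotBC (hquot : SGA1.IsQuot ρ π) (b : S' ⟶ S) :
    Surjective (Curve.quotBC b (q := q) (π := π) rfl) :=
  MorphismProperty.of_isPullback (Curve.isPullback_quotBC b rfl) ⟨IsQuot.surjective hquot⟩

end Groth.Agent.Lib.QuotTame53.Family
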