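import Groth.Agent.Lib.SchQuot.Props
import Groth.Agent.Lib.Contraction.Normal
import Groth.Agent.Lib.SymCurve53.Rank
import Mathlib.FieldTheory.Galois.IsGaloisGroup

/-!
Quotients of normal integral schemes by finite groups: normality and the degree.
-/

set_option autoImplicit false
set_option backward.isDefEq.respectTransparency false

universe u

open CategoryTheory CategoryTheory.Limits AlgebraicGeometry TopologicalSpace Opposite
open Groth.Agent.Lib.SchQuot

namespace Groth.Agent.Lib.QuotTame53.Normal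

theorem isIntegrallyClosed_invariants {B A G : Type u} [CommRing B] [CommRing A] [IsDomain A]
    [IsIntegrallyClosed A] [Algebra B A] [Group G] [MulSemiringAction G A]
    [SMulCommClass G B A] [Algebra.IsInvariant B A G] (hinj : Function.Injective (algebraMap B A)) :
    IsIntegrallyClosed B := by
  have : IsDomain B := hinj.isDomain
  have : FaithfulSMul B A := (faithfulSMul_iff_algebraMap_injective B A).mpr hinj
  let F := FractionRing A
  let φ : FractionRing B →+* F :=
    IsFractionRing.lift (g := (algebraMap A F).comp (algebraMap B A))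
      ((IsFractionRing.injective A F).comp hinj)
  have hφ : ∀ b, φ (algebraMap B _ b) = algebraMap A F (algebraMap B A b) := fun b =>
    IsLocalization.lift_eq _ _
  refine (isIntegrallyClosed_iff (FractionRing B)).mpr fun {x} hx => ?_
  obtain ⟨P, hPm, hP⟩ := hx
  have hxF : IsIntegral A (φ x) := ⟨P.map (algebraMap B A), hPm.map _, by
    have hc : φ.comp (algebraMap B (FractionRing B)) = (algebraMap A F).comp (algebraMap B A) :=
      RingHom.ext hφ
    rw [Polynomial.eval₂_map, ← hc, ← Polynomial.hom_eval₂, hP, map_zero]⟩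
  obtain ⟨a, ha⟩ := IsIntegrallyClosed.isIntegral_iff.mp hxF
  obtain ⟨⟨b, c⟩, hbc⟩ := IsLocalization.surj (nonZeroDivisors B) x
  have h1 : a * algebraMap B A c = algebraMap B A b := IsFractionRing.injective A F (by
    rw [map_mul, ha, ← hφ, ← map_mul, hbc, hφ])
  have hc0 : algebraMap B A (c : B) ≠ 0 := by
    rw [map_ne_zero_iff _ hinj]
    exact nonZeroDivisors.ne_zero c.2
  obtain ⟨b', hb'⟩ := Algebra.IsInvariant.isInvariant (A := B) (G := G) a fun g =>
    mul_right_cancel₀ hc0 (by
      rw [h1, ← smul_algebraMap g (c : B), ← smul_mul', h1, smul_algebraMap])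
  refine ⟨b', φ.injective ?_⟩
  rw [hφ, hb', ha]

variable {X Y : Scheme.{u}} {G : Type u} [Group G] [Finite G] {ρ : G →* Aut X} {p : X ⟶ Y}
  (hp : SGA1.IsQuot ρ p)
include hp

theorem isIntegral [IsIntegral X] : IsIntegral Y := by
  have : IsReduced Y := ⟨fun U => isReduced_of_injective (p.app U).hom (hp.injective U)⟩
  have : IrreducibleSpace Y :=
    { isPreirreducible_univ := by
        rw [← (IsQuot.surjective hp).range_eq, ← Set.image_univ]
        exact (PreirreducibleSpace.isPreirreducible_univ).image _ p.continuous.continuousOn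
      toNonempty := (Nonempty.map p inferInstance) }
  exact isIntegral_of_irreducibleSpace_of_isReduced Y

omit hp [Finite G] in
/-- Integrally closed sections on affine opens give integrally closed stalks. -/
theorem isNormalScheme_of_sections [IsIntegral Y]
    (h : ∀ U : Y.Opens, IsAffineOpen U → Nonempty U → IsIntegrallyClosed Γ(Y, U)) :
    Pi1.IsNormalScheme Y := by
  intro y
  obtain ⟨U, hU, hy, -⟩ := exists_isAffineOpen_mem_and_subset (show y ∈ (⊤ : Y.Opens) from trivial)
  have : Nonempty U := ⟨⟨y, hy⟩⟩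
  have := h U hU this
  let := Y.presheaf.algebra_section_stalk (⟨y, hy⟩ : U)
  have := hU.isLocalization_stalk ⟨y, hy⟩
  refine ⟨inferInstance, isIntegrallyClosed_of_isLocalization (Y.presheaf.stalk y)
    (hU.primeIdealOf ⟨y, hy⟩).asIdeal.primeCompl (Ideal.primeCompl_le_nonZeroDivisors _)⟩

theorem isNormalScheme [IsIntegral X] (hX : Pi1.IsNormalScheme X) : Pi1.IsNormalScheme Y := by
  have := isIntegral hp
  refine isNormalScheme_of_sections fun U hU hne => ?_
  have := hp.affine
  have hV : IsAffineOpen (p ⁻¹ᵁ U) := hU.preimage p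
  obtain ⟨⟨y, hy⟩⟩ := hne
  obtain ⟨x, rfl⟩ := IsQuot.surjective hp y
  have : Nonempty (p ⁻¹ᵁ U : X.Opens) := ⟨⟨x, hy⟩⟩
  have := Contraction.isIntegrallyClosed_Γ hX hV
  let := IsQuot.action hp U
  let := (p.app U).hom.toAlgebra
  have := IsQuot.smulCommClass hp U
  have := IsQuot.isInvariant hp U
  exact isIntegrallyClosed_invariants (G := G) (hp.injective U)

/-- The degree of a flat quotient map of an integral scheme by a faithful action. -/
theorem finrank_eq [IsIntegral X] [X.IsSeparated] [IsFinite p] [Flat p]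
    (hρ : Function.Injective ρ) (y : Y) : p.finrank y = Nat.card G := by
  have := isIntegral hp
  obtain ⟨U, hU, hy, -⟩ := exists_isAffineOpen_mem_and_subset (show y ∈ (⊤ : Y.Opens) from trivial)
  have hV : IsAffineOpen (p ⁻¹ᵁ U) := hU.preimage p
  obtain ⟨x, hx⟩ := IsQuot.surjective hp y
  have hxV : x ∈ p ⁻¹ᵁ U := show p x ∈ U from hx.symm ▸ hy
  have : Nonempty (p ⁻¹ᵁ U : X.Opens) := ⟨⟨x, hxV⟩⟩
  have : Nonempty U := ⟨⟨y, hy⟩⟩
  have : IsAffine (p ⁻¹ᵁ U).toScheme := hV
  have key : p ∣_ U ≫ hU.isoSpec.hom = hV.isoSpec.hom ≫ Spec.map (p.app U) := by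
    have h := IsAffineOpen.SpecMap_appLE_fromSpec p hU hV le_rfl
    rw [← Scheme.Hom.app_eq_appLE] at h
    rw [← cancel_mono hU.fromSpec, Category.assoc, Category.assoc, h, IsAffineOpen.isoSpec_hom_fromSpec,
      IsAffineOpen.isoSpec_hom_fromSpec_assoc]
    exact morphismRestrict_ι p U
  have hfin : (p.app U).hom.Finite := p.finite_app U hU
  have hflat : (p.app U).hom.Flat := by
    rw [Scheme.Hom.app_eq_appLE]; exact p.flat_appLE hU hV le_rfl
  rw [← SymCurve53.Rank.finrank_restrict p hU y hy, key]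
  haveI : IsFinite (Spec.map (p.app U)) := (IsFinite.SpecMap_iff _).mpr hfin
  haveI : Flat (Spec.map (p.app U)) := Flat.SpecMap_iff.mpr hflat
  rw [Scheme.Hom.finrank_comp_left_of_isIso, Scheme.Hom.finrank_SpecMap_eq_finrank hfin hflat]
  let := IsQuot.action hp U
  let := (p.app U).hom.toAlgebra
  have := IsQuot.smulCommClass hp U
  have := IsQuot.isInvariant hp U
  have : FaithfulSMul Γ(Y, U) Γ(X, p ⁻¹ᵁ U) :=
    (faithfulSMul_iff_algebraMap_injective _ _).mpr (hp.injective U)
  have : FaithfulSMul G Γ(X, p ⁻¹ᵁ U) := ⟨fun {g g'} h => by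
    refine inv_injective (hρ (Iso.ext ?_))
    let V := p ⁻¹ᵁ U
    have hres : ∀ a : G, ((ρ a).hom.resLE V V (SGA1.preimage_le_of_inv ρ p hp.inv a U)).appTop =
        V.topIso.hom ≫ IsQuot.pull hp.inv a U ≫ V.topIso.inv := fun a =>
      Scheme.Hom.resLE_app_top _ _
    have he : (ρ g⁻¹).hom.resLE V V (SGA1.preimage_le_of_inv ρ p hp.inv g⁻¹ U) =
        (ρ g'⁻¹).hom.resLE V V (SGA1.preimage_le_of_inv ρ p hp.inv g'⁻¹ U) := by
      refine ext_of_isAffine ?_
      rw [hres, hres]
      have : IsQuot.pull hp.inv g⁻¹ U = IsQuot.pull hp.inv g'⁻¹ U := CommRingCat.hom_ext (RingHom.ext h)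
      rw [this]
    have he' := congrArg (· ≫ V.ι) he
    simp only [Scheme.Hom.resLE_comp_ι] at he'
    have : IsDominant V.ι := ⟨by
      rw [DenseRange, Scheme.Opens.range_ι]
      exact V.2.dense ⟨x, hxV⟩⟩
    exact ext_of_isDominant V.ι he'⟩
  have hG : IsGaloisGroup G Γ(Y, U) Γ(X, p ⁻¹ᵁ U) := ⟨inferInstance, inferInstance, inferInstance⟩
  rw [IsGaloisGroup.card_eq_finrank' G Γ(Y, U) Γ(X, p ⁻¹ᵁ U)]
  show (algebraMap Γ(Y, U) Γ(X, p ⁻¹ᵁ U)).finrank _ = _
  rw [RingHom.finrank_algebraMap]
  have hle := Ideal.primeCompl_le_nonZeroDivisors (hU.isoSpec.hom ⟨y, hy⟩).asIdeal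
  exact (IsLocalization.finrank_eq _ _ hle).trans
    (IsLocalizedModule.finrank_eq _ (LocalizedModule.mkLinearMap _ _) hle)

end Groth.Agent.Lib.QuotTame53.Normal
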